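import Cfsg.Agent.H118.EP.WTor

/-!
# `tm_psu` (helper118, S4929)
-/

set_option autoImplicit false
set_option linter.unusedSectionVars false

namespace Cfsg.Agent.H118.EP

open Cfsg
open Cfsg.Agent.ChevalleyStructure.CoxeterGeom Cfsg.Agent.Tits.Roots
open Cfsg.Agent.Nodes Cfsg.Agent.Nodes.TypeC
open Cfsg.Agent.Nodes.Comb Cfsg.Agent.Nodes.Reps Cfsg.Agent.Nodes.WittRoot Cfsg.Agent.Nodes.BNOf
open Cfsg.Agent.Nodes.RGDLib Cfsg.Agent.Nodes.WittAll Cfsg.Agent.Nodes.WittU Cfsg.Agent.Nodes.RGDChev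
open Cfsg.Agent.TitsThree Cfsg.Agent.TitsThree.Siegel Cfsg.Agent.TitsThree.SiegelGen
  Cfsg.Agent.TitsThree.WittFrame Cfsg.Agent.TitsThree.WBridge Cfsg.Agent.TitsThree.WittWeyl
  Cfsg.Agent.TitsThree.FrameCN Cfsg.Agent.TitsThree.KSideU Cfsg.Agent.TitsThree.KSideUDesc
open Cfsg.Agent.LieClassical.HermBasic
open Cfsg.Agent.Omega.EH3.Kf
open Cfsg.Agent.H892.EP Cfsg.Agent.H396.CommTab

/-- **`PSU_n(q)`, `n ≥ 4`** -/
theorem tm_psu {F : Type} [Field F] [Fintype F] {r : ℕ} [Fact r.Prime] [CharP F r] {n q : ℕ}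
    (hq : Fintype.card F = q ^ 2) (hn : 4 ≤ n) : HasTM r (q ^ 2 - 1) (PSU n F q) := by
  have hc : Nat.card F = q ^ 2 := by rw [Nat.card_eq_fintype_card, hq]
  rw [← hc]
  obtain ⟨m, hm⟩ : ∃ m, n = 2 * m ∨ n = 2 * m + 1 := ⟨n / 2, by omega⟩
  rcases hm with hm | hm
  · subst hm
    obtain ⟨W, hW⟩ := exists_wframe_even (N := 2 * m) hq rfl
    obtain ⟨p0, hp0, -⟩ := exists_adm hq W
    refine hasTM_C (KInstU.model hq (by omega) W) (AmbT.of_amb (amb_U hq W) r) hp0 (by omega) (d := 0)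
      (fun v hv => ⟨0, ?_⟩) fun _ => TwWitt.gd_of_tr _ (htr_even hq W hW) hp0
    have hv' : v ∈ W.V0 := hv
    rw [hW] at hv'
    rw [(Submodule.mem_bot F).1 hv', smul_zero]
  · subst hm
    obtain ⟨W, d, hd, hW⟩ := exists_wframe_odd (N := 2 * m + 1) hq rfl
    obtain ⟨p0, hp0, -⟩ := exists_adm hq W
    refine hasTM_C (KInstU.model hq (by omega) W) (AmbT.of_amb (amb_U hq W) r) hp0 (by omega) (d := d)
      (fun v hv => ?_) fun _ => UOdd.gd _ ⟨d, ?_, exists_ok hq W hW⟩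
    · have hv' : v ∈ W.V0 := hv
      rw [hW] at hv'
      obtain ⟨a, ha⟩ := Submodule.mem_span_singleton.1 hv'
      exact ⟨a, ha.symm⟩
    · have h1 : (HU hq (2 * m + 1)).h d d = 1 := hd
      rw [h1]
      exact one_ne_zero

/-- **`PSp_{2m}(q)`, `q > 2`** -/
theorem tm_psp' {F : Type} [Field F] [Fintype F] {r : ℕ} [Fact r.Prime] [CharP F r] {m : ℕ} (hm : 2 ≤ m)
    (hF : 2 < Fintype.card F) : HasTM r (Fintype.card F - 1) (PSp m F) := by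
  rw [← Nat.card_eq_fintype_card]
  obtain ⟨t, ht0, ht1⟩ := exists_ne hF
  have hw : ∀ p : (SpIdent.frame m F).Adm, p.w = 0 := fun p =>
    (Submodule.mem_bot F).1 ((SpIdent.frame m F).ok_mem p.ok)
  refine hasTM_C (KInstSp.model m F) (AmbT.of_amb amb_Sp r) (p0 := SpIdent.adm 1) one_ne_zero hm (d := 0)
    (fun v hv => ⟨0, ?_⟩) fun _ => TwWitt.gd_of_sp _ hw (fun _ => rfl) (fun c => ⟨SpIdent.adm c, rfl⟩) ht0 ht1
  have hv' : v ∈ (⊥ : Submodule F _) := hv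
  rw [(Submodule.mem_bot F).1 hv', smul_zero]

end Cfsg.Agent.H118.EP
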