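import Cfsg.Agent.H396.CommTab1
import Cfsg.Agent.H892.EP.TM

/-!
# `HasTM` for groups modelled on a Witt frame with `dim V0 ≤ 1` (helper118, S4929)

`hasTM_C` : `K` modelled on a Witt frame of Witt index `≥ 2` over the finite field `F`, `V0` of dimension at most one:
`HasTM r (|F| - 1) K`. Instances: `PSU_n`, `n ≥ 4` (`tm_psu`), `PSp_{2m}`, `PΩ_{2m+1}`.
-/

set_option autoImplicit false
set_option linter.unusedSectionVars false

namespace Cfsg.Agent.H118.EP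

open Cfsg
open Cfsg.Agent.ChevalleyStructure.CoxeterGeom Cfsg.Agent.Tits.Roots
open Cfsg.Agent.Nodes Cfsg.Agent.Nodes.TypeC
open Cfsg.Agent.Nodes.Comb Cfsg.Agent.Nodes.Reps Cfsg.Agent.Nodes.WittRoot Cfsg.Agent.Nodes.BNOf
open Cfsg.Agent.Nodes.RGDLib Cfsg.Agent.Nodes.WittAll Cfsg.Agent.Nodes.WittU Cfsg.Agent.Nodes.RGDChev
open Cfsg.Agent.TitsThree Cfsg.Agent.TitsThree.Siegel Cfsg.Agent.TitsThree.SiegelGen
  Cfsg.Agent.TitsThree.WittFrame Cfsg.Agent.TitsThree.WBridge Cfsg.Agent.TitsThree.WittWeyl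
  Cfsg.Agent.TitsThree.FrameCN Cfsg.Agent.TitsThree.KSideU Cfsg.Agent.TitsThree.KSideUDesc
open Cfsg.Agent.LieClassical.HermBasic
open Cfsg.Agent.Omega.EH3.Kf
open Cfsg.Agent.H892.EP

section Torus

variable {F : Type*} [Field F] {V : Type*} [AddCommGroup V] [Module F V] {H : HForm F V} {n : ℕ}
  {Fr : Frame H (Fin n)}

theorem inv_apply_of {g : V ≃ₗ[F] V} {v w : V} (h : g v = w) : g⁻¹ w = v := by
  rw [← h, ← mul_apply', inv_mul_cancel]; rfl

theorem pow_apply_of {g : V ≃ₗ[F] V} {v : V} {a : F} (h : g v = a • v) (m : ℕ) : (g ^ m) v = a ^ m • v := by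
  induction m with
  | zero => rw [pow_zero, pow_zero, _root_.one_smul]; rfl
  | succ m ih => rw [pow_succ, mul_apply', h, map_smul, ih, smul_smul, pow_succ, mul_comm]

/-- A linear map is determined by its action on the frame and on `V0`. -/
theorem eq_one_of_fix {p : ℕ} {G0 : Subgroup (V ≃ₗ[F] V)} (hA : AmbT Fr p G0) {g : V ≃ₗ[F] V}
    (hb : ∀ x, g (Fr.b x) = Fr.b x) (h0 : ∀ w ∈ Fr.V0, g w = w) : g = 1 := by
  ext v
  set u : V := ∑ x, (H.h v (Fr.b (neg x)) * (Fr.η (neg x))⁻¹) • Fr.b x with hu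
  have h1 : v - u ∈ Fr.V0 := by
    apply hA.V0
    intro y
    rw [H.sub_left, sub_eq_zero]
    have h2 : H.h u (Fr.b y) = ∑ x, (H.h v (Fr.b (neg x)) * (Fr.η (neg x))⁻¹) * H.h (Fr.b x) (Fr.b y) := by
      rw [hu]
      have : ∀ (s : Finset (Fin n × Bool)) (f : Fin n × Bool → F), H.h (∑ x ∈ s, f x • Fr.b x) (Fr.b y) =
          ∑ x ∈ s, f x * H.h (Fr.b x) (Fr.b y) := by
        intro s f
        induction s using Finset.induction_on with
        | empty => simp [H.zero_left]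
        | insert a s ha ih => rw [Finset.sum_insert ha, Finset.sum_insert ha, H.add_left, H.smul_left, ih]
      exact this _ _
    rw [h2, Finset.sum_eq_single (neg y)]
    · rw [WittFrame.neg_neg, Fr.hb_neg_self]
      have := Fr.η_ne y
      field_simp
    · intro x _ hx
      rw [Fr.hb_ne, mul_zero]
      rintro rfl
      exact hx (WittFrame.neg_neg x).symm
    · intro h; exact absurd (Finset.mem_univ _) h
  have h2 : g u = u := by
    rw [hu, map_sum]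
    exact Finset.sum_congr rfl fun x _ => by rw [map_smul, hb]
  have h3 : v = (v - u) + u := by abel
  show g v = v
  rw [h3, map_add, h0 _ h1, h2]

variable (Fr) in
/-- the torus element -/
def hX (x y : Fin n × Bool) (c : F) : V ≃ₗ[F] V := nX Fr x y c * (nX Fr x y 1)⁻¹

theorem hX_self {x y : Fin n × Bool} (h : x.1 ≠ y.1) {c : F} (hc : c ≠ 0) : hX Fr x y c (Fr.b x) = c • Fr.b x := by
  have h1 := nX_apply_neg Fr h (t := (1 : F)) one_ne_zero
  rw [_root_.one_smul] at h1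
  rw [hX, mul_apply', inv_apply_of h1, nX_apply_neg Fr h hc]

theorem hX_neg {x y : Fin n × Bool} (h : x.1 ≠ y.1) {c : F} (hc : c ≠ 0) :
    hX Fr x y c (Fr.b (neg y)) = c⁻¹ • Fr.b (neg y) := by
  have h1 : nX Fr x y 1 (-Fr.b x) = Fr.b (neg y) := by
    rw [map_neg, nX_apply_self Fr h (t := (1 : F)) one_ne_zero, inv_one, _root_.one_smul, _root_.neg_neg]
  rw [hX, mul_apply', inv_apply_of h1, map_neg, nX_apply_self Fr h hc, _root_.neg_neg]

theorem hX_neg' {x y : Fin n × Bool} (h : x.1 ≠ y.1) {c : F} (hc : c ≠ 0) :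
    hX Fr x y c (Fr.b (neg x)) = (H.σ c)⁻¹ • Fr.b (neg x) := by
  have hx := Fr.η_ne x
  have hy := Fr.η_ne y
  have he := H.ε_ne
  have hσ : H.σ c ≠ 0 := by simpa using hc
  have h1 : nX Fr x y 1 ((H.ε⁻¹ * Fr.η x * Fr.η y) • Fr.b y) = Fr.b (neg x) := by
    rw [map_smul, nX_apply_self' Fr h (t := (1 : F)) one_ne_zero, smul_smul, map_one, mul_one, mul_inv_cancel₀,
      _root_.one_smul]
    exact mul_ne_zero (mul_ne_zero (inv_ne_zero he) hx) hy
  rw [hX, mul_apply', inv_apply_of h1, map_smul, nX_apply_self' Fr h hc, smul_smul]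
  congr 1
  field_simp

theorem hX_self' {x y : Fin n × Bool} (h : x.1 ≠ y.1) {c : F} (hc : c ≠ 0) :
    hX Fr x y c (Fr.b y) = H.σ c • Fr.b y := by
  have hx := Fr.η_ne x
  have hy := Fr.η_ne y
  have he := H.ε_ne
  have hk : H.ε⁻¹ * Fr.η x * Fr.η y ≠ 0 := mul_ne_zero (mul_ne_zero (inv_ne_zero he) hx) hy
  have h1 : nX Fr x y 1 (-((H.ε⁻¹ * Fr.η x * Fr.η y)⁻¹ • Fr.b (neg x))) = Fr.b y := by
    rw [map_neg, map_smul, nX_apply_neg' Fr h (t := (1 : F)) one_ne_zero, map_one, mul_one, smul_neg, smul_smul,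
      inv_mul_cancel₀ hk, _root_.one_smul, _root_.neg_neg]
  rw [hX, mul_apply', inv_apply_of h1, map_neg, map_smul, nX_apply_neg' Fr h hc, smul_neg, smul_smul,
    _root_.neg_neg, ← mul_assoc, inv_mul_cancel₀ hk, one_mul]

theorem hX_of_ne {x y z : Fin n × Bool} (h : x.1 ≠ y.1) (h1 : z.1 ≠ x.1) (h2 : z.1 ≠ y.1) (c : F) :
    hX Fr x y c (Fr.b z) = Fr.b z := by
  rw [hX, mul_apply', inv_apply_of (nX_apply_of_ne Fr h h1 h2 1), nX_apply_of_ne Fr h h1 h2]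

theorem hX_V0 {x y : Fin n × Bool} (h : x.1 ≠ y.1) {v : V} (hv : v ∈ Fr.V0) (c : F) : hX Fr x y c v = v := by
  rw [hX, mul_apply', inv_apply_of (nX_apply_V0 Fr h hv 1), nX_apply_V0 Fr h hv]

/-- `hX c` is diagonal; its eigenvalues are `1`, `c`, `c⁻¹`, `σ c`, `(σ c)⁻¹`. -/
theorem hX_diag {x y : Fin n × Bool} (h : x.1 ≠ y.1) {c : F} (hc : c ≠ 0) {N : ℕ} (hN : c ^ N = 1)
    (z : Fin n × Bool) : ∃ l : F, l ^ N = 1 ∧ hX Fr x y c (Fr.b z) = l • Fr.b z := by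
  have hs : (H.σ c) ^ N = 1 := by rw [← map_pow, hN, map_one]
  have hneg : ∀ {a b : Fin n × Bool}, a.1 = b.1 → a = b ∨ a = neg b := fun {a b} hab => by
    rcases Cfsg.Agent.Nodes.WittRGD.eq_or_ng hab with h1 | h1
    · exact Or.inl h1
    · exact Or.inr h1
  by_cases h1 : z.1 = x.1
  · rcases hneg h1 with rfl | rfl
    · exact ⟨c, hN, hX_self h hc⟩
    · exact ⟨_, by rw [inv_pow, hs, inv_one], hX_neg' h hc⟩
  · by_cases h2 : z.1 = y.1
    · rcases hneg h2 with rfl | rfl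
      · exact ⟨_, hs, hX_self' h hc⟩
      · exact ⟨_, by rw [inv_pow, hN, inv_one], hX_neg h hc⟩
    · exact ⟨1, one_pow _, by rw [_root_.one_smul]; exact hX_of_ne h h1 h2 c⟩

theorem hX_pow {p : ℕ} {G0 : Subgroup (V ≃ₗ[F] V)} (hA : AmbT Fr p G0) {x y : Fin n × Bool} (h : x.1 ≠ y.1)
    {c : F} (hc : c ≠ 0) {N : ℕ} (hN : c ^ N = 1) : hX Fr x y c ^ N = 1 := by
  refine eq_one_of_fix hA (fun z => ?_) fun w hw => ?_
  · obtain ⟨l, hl, e⟩ := hX_diag (Fr := Fr) h hc hN z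
    rw [pow_apply_of e, hl, _root_.one_smul]
  · have e : hX Fr x y c w = (1 : F) • w := by rw [_root_.one_smul]; exact hX_V0 h hw c
    rw [pow_apply_of e, one_pow, _root_.one_smul]

end Torus

section Model

variable {F : Type*} [Field F] {V : Type*} [AddCommGroup V] [Module F V] {H : HForm F V} {n : ℕ}
  {Fr : Frame H (Fin n)} {K : Type*} [Group K] {r : ℕ} (M : Model Fr K) (hA : AmbT Fr r M.I)

include hA

theorem hX_mem (x y : Fin n × Bool) (c : F) : hX Fr x y c ∈ M.I :=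
  mul_mem (WittAll.nX_mem hA _ _ _) (inv_mem (WittAll.nX_mem hA _ _ _))

theorem nx_fst_ne {i : Fin n} (hi : (i : ℕ) + 1 < n) : ((i, true) : Fin n × Bool).1 ≠ (nx i).1 := by
  have hnx : nx i = (⟨i + 1, hi⟩, false) := by unfold nx; rw [dif_pos hi]
  rw [hnx]; simp [Fin.ext_iff]

theorem hX_mem_T {i : Fin n} (hi : (i : ℕ) + 1 < n) {c : F} (hc : c ≠ 0) :
    M.φ ⟨hX Fr (i, true) (nx i) c, hX_mem M hA _ _ _⟩ ∈ WittModel.T M :=
  Subgroup.mem_map_of_mem _ (Subgroup.mem_subgroupOf.2 (WittAll.tor_of_mono (WittAll.nX_mem hA _ _ _)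
    (WittAll.nX_mem hA _ _ _) (WittRGD.mono_nX hi hc) (WittRGD.mono_nX hi one_ne_zero)))

/-- `n i` does not commute with the image of `hX c` unless `c ^ 4 = 1`. -/
theorem pow_four_of_comm {p0 : Fr.Adm} {i : Fin n} (hi : (i : ℕ) + 1 < n) {c : F} (hc : c ≠ 0)
    (h : M.φ ⟨WittRGD.nn Fr p0 i, WittAll.nn_mem hA p0 i⟩ * M.φ ⟨hX Fr (i, true) (nx i) c, hX_mem M hA _ _ _⟩ =
      M.φ ⟨hX Fr (i, true) (nx i) c, hX_mem M hA _ _ _⟩ * M.φ ⟨WittRGD.nn Fr p0 i, WittAll.nn_mem hA p0 i⟩) :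
    c ^ 4 = 1 := by
  have hne := nx_fst_ne M hA hi
  set x : Fin n × Bool := (i, true) with hx
  set y : Fin n × Bool := nx i with hy
  have hnn : WittRGD.nn Fr p0 i = nX Fr x y 1 := by
    unfold WittRGD.nn; rw [if_pos hi]
  set a : M.I := ⟨WittRGD.nn Fr p0 i, WittAll.nn_mem hA p0 i⟩ with ha
  set t : M.I := ⟨hX Fr x y c, hX_mem M hA _ _ _⟩ with ht
  have h1 : M.φ ((a * t)⁻¹ * (t * a)) = 1 := by
    rw [map_mul, map_inv, map_mul, map_mul, h, inv_mul_cancel]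
  obtain ⟨l, hl⟩ := M.ker (Fr.b x + Fr.b (neg y)) _ h1
  have hl' : (a.1 * t.1)⁻¹ ((t.1 * a.1) (Fr.b x + Fr.b (neg y))) = l • (Fr.b x + Fr.b (neg y)) := hl
  have h2 : (t.1 * a.1) (Fr.b x + Fr.b (neg y)) = l • (a.1 * t.1) (Fr.b x + Fr.b (neg y)) := by
    rw [← map_smul, ← hl', ← mul_apply', mul_inv_cancel]; rfl
  have e1 : a.1 (Fr.b x) = -Fr.b (neg y) := by
    rw [ha]
    show WittRGD.nn Fr p0 i (Fr.b x) = _
    rw [hnn, nX_apply_self Fr hne (t := (1 : F)) one_ne_zero, inv_one, _root_.one_smul]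
  have e2 : a.1 (Fr.b (neg y)) = Fr.b x := by
    rw [ha]
    show WittRGD.nn Fr p0 i (Fr.b (neg y)) = _
    rw [hnn, nX_apply_neg Fr hne (t := (1 : F)) one_ne_zero, _root_.one_smul]
  have e3 : t.1 (Fr.b x) = c • Fr.b x := hX_self hne hc
  have e4 : t.1 (Fr.b (neg y)) = c⁻¹ • Fr.b (neg y) := hX_neg hne hc
  rw [mul_apply', mul_apply', map_add, map_add, map_add, map_add, e1, e2, map_neg, e3, e4, map_smul, map_smul, e1,
    e2] at h2
  -- coordinates
  have hxy : neg x ≠ neg (neg y) := by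
    rw [WittFrame.neg_neg]
    intro h'
    exact hne (by rw [← h', neg_fst])
  have hyx : y ≠ neg x := by
    intro h'
    exact hne (by rw [h', neg_fst])
  have h3 := congrArg (fun v => H.h v (Fr.b (neg x))) h2
  have h4 := congrArg (fun v => H.h v (Fr.b y)) h2
  have q1 : H.h (Fr.b x) (Fr.b (neg x)) = Fr.η (neg x) := Fr.hb_self_neg x
  have q2 : H.h (Fr.b (neg y)) (Fr.b (neg x)) = 0 := Fr.hb_ne hxy
  have q3 : H.h (Fr.b x) (Fr.b y) = 0 := Fr.hb_ne hyx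
  have q4 : H.h (Fr.b (neg y)) (Fr.b y) = Fr.η y := by
    have := Fr.hb_self_neg (neg y)
    rwa [WittFrame.neg_neg] at this
  simp only [H.add_left, H.neg_left, H.smul_left, q1, q2, q3, q4, mul_zero, neg_zero, zero_add, add_zero] at h3 h4
  have hη := Fr.η_ne (neg x)
  have hη' := Fr.η_ne y
  have h5 : c = l * c⁻¹ := by
    apply mul_right_cancel₀ hη
    rw [h3]; ring
  have h6 : c⁻¹ = l * c := by
    apply mul_right_cancel₀ hη'
    linear_combination -h4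
  have h7 : l = c ^ 2 := by
    rw [eq_comm] at h5
    field_simp at h5
    rw [h5]
  rw [h7] at h6
  have h8 : c * c⁻¹ = 1 := mul_inv_cancel₀ hc
  rw [h6] at h8
  rw [← h8]; ring

/-- elements of the torus act by a scalar on `V0` -/
theorem scalar_V0 {d : V} (hd : ∀ v ∈ Fr.V0, ∃ a : F, v = a • d) {g : V ≃ₗ[F] V} (hg : g ∈ WittRGD.Tor Fr M.I) :
    ∃ μ : F, μ ≠ 0 ∧ ∀ w ∈ Fr.V0, g w = μ • w := by
  by_cases hd0 : d ∈ Fr.V0
  · by_cases hz : d = 0
    · refine ⟨1, one_ne_zero, fun w hw => ?_⟩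
      obtain ⟨a, rfl⟩ := hd w hw
      rw [hz, smul_zero, smul_zero, map_zero]
    · obtain ⟨μ, hμ⟩ := hd _ (hA.map_V0 hg.1 hg.2 (ρ := id) (fun _ => rfl) hd0)
      refine ⟨μ, ?_, fun w hw => ?_⟩
      · rintro rfl
        rw [zero_smul] at hμ
        exact hz (g.map_eq_zero_iff.1 hμ)
      · obtain ⟨a, rfl⟩ := hd w hw
        rw [map_smul, hμ, smul_comm]
  · refine ⟨1, one_ne_zero, fun w hw => ?_⟩
    obtain ⟨a, ha⟩ := hd w hw
    have : a = 0 := by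
      by_contra hne
      apply hd0
      have h1 := Fr.V0.smul_mem a⁻¹ hw
      rwa [ha, smul_smul, inv_mul_cancel₀ hne, _root_.one_smul] at h1
    rw [ha, this, zero_smul, map_zero, smul_zero]

theorem tor_comm {d : V} (hd : ∀ v ∈ Fr.V0, ∃ a : F, v = a • d) {g k : V ≃ₗ[F] V} (hg : g ∈ WittRGD.Tor Fr M.I)
    (hk : k ∈ WittRGD.Tor Fr M.I) : g * k = k * g := by
  have h1 : (k * g)⁻¹ * (g * k) = 1 := by
    refine eq_one_of_fix hA (fun x => ?_) fun w hw => ?_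
    · obtain ⟨l, -, e⟩ := hg.2 x
      obtain ⟨m, -, e'⟩ := hk.2 x
      change g (Fr.b x) = l • Fr.b x at e
      change k (Fr.b x) = m • Fr.b x at e'
      have h2 : (k * g) (Fr.b x) = (g * k) (Fr.b x) := by
        rw [mul_apply', mul_apply', e, e', map_smul, map_smul, e, e', smul_comm]
      rw [mul_apply']
      exact inv_apply_of h2
    · obtain ⟨l, -, e⟩ := scalar_V0 M hA hd hg
      obtain ⟨m, -, e'⟩ := scalar_V0 M hA hd hk
      have h2 : (k * g) w = (g * k) w := by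
        rw [mul_apply', mul_apply', e _ hw, e' _ hw, map_smul, map_smul, e _ hw, e' _ hw, smul_comm]
      rw [mul_apply']
      exact inv_apply_of h2
  exact (inv_mul_eq_one.1 h1).symm

theorem tor_pow [Finite F] {d : V} (hd : ∀ v ∈ Fr.V0, ∃ a : F, v = a • d) {g : V ≃ₗ[F] V}
    (hg : g ∈ WittRGD.Tor Fr M.I) : g ^ (Nat.card F - 1) = 1 := by
  have := Fintype.ofFinite F
  have hpow : ∀ a : F, a ≠ 0 → a ^ (Nat.card F - 1) = 1 := fun a ha => by
    rw [Nat.card_eq_fintype_card]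
    exact FiniteField.pow_card_sub_one_eq_one a ha
  refine eq_one_of_fix hA (fun x => ?_) fun w hw => ?_
  · obtain ⟨l, hl, e⟩ := hg.2 x
    rw [pow_apply_of e, hpow l hl, _root_.one_smul]
  · obtain ⟨l, hl, e⟩ := scalar_V0 M hA hd hg
    rw [pow_apply_of (e w hw), hpow l hl, _root_.one_smul]

theorem T_comm {d : V} (hd : ∀ v ∈ Fr.V0, ∃ a : F, v = a • d) : ∀ a ∈ WittModel.T M, ∀ b ∈ WittModel.T M,
    a * b = b * a := by
  rintro _ ⟨⟨g, hg⟩, hgT, rfl⟩ _ ⟨⟨k, hk⟩, hkT, rfl⟩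
  rw [← map_mul, ← map_mul]
  congr 1
  exact Subtype.ext (tor_comm M hA hd hgT hkT)

theorem T_pow [Finite F] {d : V} (hd : ∀ v ∈ Fr.V0, ∃ a : F, v = a • d) {t : K} (ht : t ∈ WittModel.T M) :
    t ^ (Nat.card F - 1) = 1 := by
  obtain ⟨⟨g, hg⟩, hgT, rfl⟩ := ht
  rw [← map_pow]
  have h1 : (⟨g, hg⟩ : M.I) ^ (Nat.card F - 1) = 1 := Subtype.ext (tor_pow M hA hd hgT)
  rw [h1, map_one]

/-- **elements of order `p` of the torus moved by `n i`** -/
theorem exists_moved [Finite F] (p0 : Fr.Adm) {i : Fin n} (hi : (i : ℕ) + 1 < n) {p : ℕ} (hp : p.Prime)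
    (hp2 : p ≠ 2) (hd : p ∣ Nat.card F - 1) :
    ∃ t ∈ WittModel.T M, t ^ p = 1 ∧ M.φ ⟨WittRGD.nn Fr p0 i, WittAll.nn_mem hA p0 i⟩ * t ≠
      t * M.φ ⟨WittRGD.nn Fr p0 i, WittAll.nn_mem hA p0 i⟩ := by
  have := Fintype.ofFinite F
  have : Fact p.Prime := ⟨hp⟩
  have hd' : p ∣ Nat.card Fˣ := by rwa [Nat.card_units]
  obtain ⟨c, hc⟩ := exists_prime_orderOf_dvd_card' p hd'
  have hcp : (c : F) ^ p = 1 := by
    rw [← hc, ← Units.val_pow_eq_pow_val, pow_orderOf_eq_one, Units.val_one]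
  refine ⟨_, hX_mem_T M hA hi c.ne_zero, ?_, fun h => ?_⟩
  · rw [← map_pow]
    have h1 : (⟨hX Fr (i, true) (nx i) c, hX_mem M hA _ _ _⟩ : M.I) ^ p = 1 :=
      Subtype.ext (hX_pow hA (nx_fst_ne M hA hi) c.ne_zero hcp)
    rw [h1, map_one]
  · have h4 := pow_four_of_comm M hA hi c.ne_zero h
    have h5 : c ^ 4 = 1 := Units.ext (by rw [Units.val_pow_eq_pow_val, h4]; rfl)
    have h6 := orderOf_dvd_of_pow_eq_one h5
    rw [hc] at h6
    have h7 : p ∣ 2 := hp.dvd_of_dvd_pow (show p ∣ 2 ^ 2 from h6)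
    exact hp2 ((Nat.prime_dvd_prime_iff_eq hp Nat.prime_two).1 h7)

/-- **`HasTM` for a model of Witt index `≥ 2` with `dim V0 ≤ 1`.** -/
theorem hasTM_C [Finite F] [Finite V] [Fact r.Prime] [CharP F r] {p0 : Fr.Adm} (hp0 : p0.c ≠ 0) (hn : 2 ≤ n)
    {d : V} (hd : ∀ v ∈ Fr.V0, ∃ a : F, v = a • d) (hG : r = 2 → TwC.Gd (WittModel.X M)) :
    HasTM r (Nat.card F - 1) K := by
  have hfin : Finite (V ≃ₗ[F] V) := Finite.of_injective (fun g : V ≃ₗ[F] V => (g : V → V)) DFunLike.coe_injective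
  have hfT : Finite ↥(WittModel.T M) := by
    have : Finite ↥((WittRGD.Tor Fr M.I).subgroupOf M.I) := inferInstance
    exact Finite.of_surjective (fun g : ↥((WittRGD.Tor Fr M.I).subgroupOf M.I) =>
      (⟨M.φ g.1, Subgroup.mem_map_of_mem _ g.2⟩ : ↥(WittModel.T M))) (by
        rintro ⟨_, g, hg, rfl⟩
        exact ⟨⟨g, hg⟩, rfl⟩)
  have h0 : ((⟨0, by omega⟩ : Fin n) : ℕ) + 1 < n := by simp; omega
  refine ⟨n, CoxeterMatrix.B n, A n, isCartan n, _, _, _, finite_W (CoxeterMatrix.B n).toCoxeterSystem,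
    rgdC_model M hA hp0 _, WittModel.G1_eq_top _ (by omega) _, T_comm M hA hd, ?_, ?_, ?_⟩
  · intro p hp hp2 hdvd
    have : Fact p.Prime := ⟨hp⟩
    obtain ⟨⟨t, ht⟩, ho⟩ := exists_prime_orderOf_dvd_card' p hdvd
    rw [Subgroup.orderOf_mk] at ho
    have h1 : p ∣ Nat.card F - 1 := by
      rw [← ho]; exact orderOf_dvd_of_pow_eq_one (T_pow M hA hd ht)
    obtain ⟨t, ht, h2, h3⟩ := exists_moved M hA p0 h0 hp hp2 h1
    exact ⟨_, t, ht, ⟨1, by rw [pow_one]; exact h2⟩, h3⟩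
  · intro p hp hp2 hdvd
    obtain ⟨t, ht, h2, h3⟩ := exists_moved M hA p0 h0 hp hp2 hdvd
    have h4 : orderOf t = p := by
      rcases (Nat.dvd_prime hp).1 (orderOf_dvd_of_pow_eq_one h2) with h | h
      · exfalso
        apply h3
        rw [orderOf_eq_one_iff.1 h, mul_one, one_mul]
      · exact h
    rw [← h4, ← Subgroup.orderOf_mk t ht]
    exact orderOf_dvd_natCard _
  · intro hr _ hr1 h0 hs
    exact (hG hr).gen _ hr1 h0 hs

end Model

end Cfsg.Agent.H118.EP
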